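/-
helper34: project BT (helper35's sheet for S2154, Borel–Tits), module BT-[FIL-X]:
the diagonal entries of `x_r(t)` are `1`, and `x_r(t) - 1` raises the `y`-weight by at least `⟨r, y⟩` when this is `≥ 0`.
-/
import Cfsg.Agent.Lib.Helper35.BT.Defs
import Cfsg.Agent.Lib.Helper17.ChevUnipotent
import Cfsg.Agent.Lib.Helper18.Tri
import Cfsg.Agent.Lib.Helper18.BN4
import Cfsg.Agent.Lib.Helper18.Longest

set_option autoImplicit false

namespace Cfsg.Agent.Lib.Helper35.BT

open Cfsg Cfsg.Lie Cfsg.Agent.Lib.Helper18 Cfsg.Agent.Lib.Helper61.ChevJ Matrix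

universe u

variable {D : ChevalleyDatum}

section Mat

variable {F : Type u} [Field F]

/-- BT-[FIL-X]: the diagonal entries of a root element are `1`. -/
theorem x_diag (hD : D ∈ [chevG2, chevB2, chevD4, chevF4, chevE6, chevE7, chevE8]) (r : ℕ) (hr : r < D.nroots)
    (t : F) (a : D.Idx) : D.x F r t a a = 1 := by
  have hx : D.x F r t = D.xMat F ⟨r, hr⟩ t := by
    unfold ChevalleyDatum.x
    rw [dif_pos hr]
  rw [hx]
  by_cases h2 : D.nroots / 2 ≤ r
  · have hpos : D.IsPosRoot r := (isPosRoot_iff hD r).mpr ⟨hr, h2⟩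
    have hdep := Cfsg.Agent.Lib.Helper17.xMat_sub_one_depth (F := F)
      (Cfsg.Agent.Lib.Helper17.posOK_of_mem D hD) ⟨r, hr⟩ hpos t
    have h3 := hdep a a (by omega)
    rw [Matrix.sub_apply, Matrix.one_apply_eq, sub_eq_zero] at h3
    exact h3
  · have hneg : D.IsNegRoot r := isNegRoot_of_lt D (signOK_of_mem D hD) r hr (by omega)
    have hdep := Cfsg.Agent.Lib.Helper18.xMat_sub_one_depth_neg (F := F)
      (Cfsg.Agent.Lib.Helper18.negOK_of_mem D hD) ⟨r, hr⟩ hneg t
    have h3 := hdep a a (by omega)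
    rw [Matrix.sub_apply, Matrix.one_apply_eq, sub_eq_zero] at h3
    exact h3

/-- BT-[FIL-X]: `x_r(t) - 1` raises the `y`-weight by at least `⟨r, y⟩` (when this is non-negative). -/
theorem fil_x (hD : D ∈ [chevG2, chevB2, chevD4, chevF4, chevE6, chevE7, chevE8]) (X : JData.{u} D) (y : Y D)
    (r : ℕ) (hr : r < D.nroots) (t : F) (h : 0 ≤ om X y r) : Fil X y (om X y r) (D.x F r t - 1) := by
  intro a b hab
  rw [Matrix.sub_apply] at hab
  by_cases heq : a = b
  · subst heq
    rw [x_diag hD r hr t a, Matrix.one_apply_eq, sub_self] at hab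
    exact absurd rfl hab
  · rw [Matrix.one_apply_ne heq, sub_zero] at hab
    obtain ⟨m, h0, hm⟩ := wt_entry X y r hr t a b hab
    have hm1 : 1 ≤ m := by
      by_contra hlt
      exact heq (h0 (by omega))
    rw [hm]
    have h1 : (1 : ℝ) ≤ (m : ℝ) := by exact_mod_cast hm1
    nlinarith

end Mat

end Cfsg.Agent.Lib.Helper35.BT
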