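/-
helper34: project BT (helper35's sheet for S2154, Borel–Tits), module BT-[ROOT-B] (hedge of helper7's queue):
signs of `om y r = ⟨r, y⟩` for dominant `y`.
-/
import Cfsg.Agent.Lib.Helper35.BT.Defs

set_option autoImplicit false

namespace Cfsg.Agent.Lib.Helper34.BT

open Cfsg Cfsg.Lie Cfsg.Agent.Lib.Helper18 Cfsg.Agent.Lib.Helper61.ChevJ Matrix
open Cfsg.Agent.Lib.Helper35.BT

universe u

variable {D : ChevalleyDatum}

/-- the coefficients of a positive root are non-negative -/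
theorem rc_nonneg (X : JData.{u} D) (r : ℕ) (hr : D.IsPosRoot r) (k : ℕ) (hk : k < D.rank) :
    0 ≤ rcAt X.rcT X.C.T.rank r k := by
  have hn := X.C.nroots_eq
  have hl := X.C.rank_eq
  have hs := rcSignOK_spec X.C.T X.rcT X.hsign r (hn.symm ▸ hr.1) k (hl.symm ▸ hk)
  rcases (X.coroot_nonneg r hr k hk).lt_or_eq with h | h
  · exact le_of_lt (hs.2.mpr h)
  · exact le_of_eq (hs.1.mpr h.symm).symm

theorem rv_nonneg (X : JData.{u} D) (r : ℕ) (hr : D.IsPosRoot r) (k : Fin D.rank) : 0 ≤ rv X r k :=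
  rc_nonneg X r hr k k.2

theorem not_mem_Jof {y : Y D} (hy : Dom y) (k : Fin D.rank) (hk : (k : ℕ) ∉ Jof y) : 0 < y k := by
  rcases (hy k).lt_or_eq with h | h
  · exact h
  · exact absurd ⟨k.2, h.symm⟩ hk

theorem mem_Jof {y : Y D} (k : Fin D.rank) (hk : (k : ℕ) ∈ Jof y) : y k = 0 := by
  obtain ⟨h, h0⟩ := hk
  exact h0

theorem om_nonneg' (X : JData.{u} D) (y : Y D) (hy : Dom y) (r : ℕ) (hr : D.IsPosRoot r) : 0 ≤ om X y r := by
  unfold om
  exact Finset.sum_nonneg fun k _ => mul_nonneg (Int.cast_nonneg (rv_nonneg X r hr k)) (hy k)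

theorem om_pos' (X : JData.{u} D) (y : Y D) (hy : Dom y) (r : ℕ) (hr : D.IsPosRoot r)
    (hnot : ¬ D.InRootSub (Jof y) r) : 0 < om X y r := by
  have hn := X.C.nroots_eq
  have hl := X.C.rank_eq
  rw [X.inRootSub_iff] at hnot
  have hex : ∃ k, ∃ hk : k < D.rank, k ∉ Jof y ∧ X.C.T.coroot r k ≠ 0 := by
    by_contra hcon
    apply hnot
    refine ⟨hr.1, fun k hk hkJ => ?_⟩
    by_contra hne
    exact hcon ⟨k, hk, hkJ, hne⟩
  obtain ⟨k, hk, hkJ, hne⟩ := hex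
  unfold om
  apply Finset.sum_pos'
  · intro i _
    exact mul_nonneg (Int.cast_nonneg (rv_nonneg X r hr i)) (hy i)
  · refine ⟨⟨k, hk⟩, Finset.mem_univ _, ?_⟩
    have hs := rcSignOK_spec X.C.T X.rcT X.hsign r (hn.symm ▸ hr.1) k (hl.symm ▸ hk)
    have hpos : 0 < rv X r ⟨k, hk⟩ := by
      rcases (rv_nonneg X r hr ⟨k, hk⟩).lt_or_eq with h | h
      · exact h
      · exact absurd (hs.1.mp h.symm) hne
    exact mul_pos (Int.cast_pos.mpr hpos) (not_mem_Jof hy ⟨k, hk⟩ hkJ)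

theorem om_eq_zero' (X : JData.{u} D) (y : Y D) (r : ℕ) (hr : D.InRootSub (Jof y) r) : om X y r = 0 := by
  have hn := X.C.nroots_eq
  have hl := X.C.rank_eq
  obtain ⟨hr1, hr2⟩ := (X.inRootSub_iff (Jof y) r).mp hr
  unfold om
  apply Finset.sum_eq_zero
  intro k _
  by_cases hk : (k : ℕ) ∈ Jof y
  · rw [mem_Jof k hk, mul_zero]
  · have hs := rcSignOK_spec X.C.T X.rcT X.hsign r (hn.symm ▸ hr1) k (hl.symm ▸ k.2)
    have h0 : rv X r k = 0 := hs.1.mpr (hr2 k k.2 hk)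
    rw [h0, Int.cast_zero, zero_mul]

theorem one_le_om_rho' (X : JData.{u} D) (r : ℕ) (hr : D.IsPosRoot r) : 1 ≤ om X (fun _ => (1 : ℝ)) r := by
  have hnot : ¬ D.InRootSub (∅ : Set ℕ) r := by
    intro h
    obtain ⟨ws, j, -, -, hj, -⟩ := X.exists_jword ∅ r h
    exact hj
  have hpos := X.lvlR_pos ∅ r hr hnot
  have hsum : om X (fun _ => (1 : ℝ)) r = ((X.lvlR ∅ r : ℤ) : ℝ) := by
    unfold om JData.lvlR
    have hfil : ∀ k ∈ Finset.range D.rank, k ∉ (∅ : Set ℕ) := fun k _ => Set.notMem_empty k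
    have hfilter : ∀ (inst : DecidablePred fun k : ℕ => k ∉ (∅ : Set ℕ)),
        @Finset.filter ℕ (fun k => k ∉ (∅ : Set ℕ)) inst (Finset.range D.rank) = Finset.range D.rank := by
      intro inst
      exact Finset.filter_true_of_mem hfil
    rw [hfilter]
    rw [Int.cast_sum, ← Fin.sum_univ_eq_sum_range (fun k => ((rcAt X.rcT X.C.T.rank r k : ℤ) : ℝ)) D.rank]
    exact Finset.sum_congr rfl fun k _ => by rw [mul_one]; rfl
  rw [hsum]
  have h1 : (1 : ℤ) ≤ X.lvlR ∅ r := hpos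
  exact_mod_cast h1

end Cfsg.Agent.Lib.Helper34.BT
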