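/-
helper34: project BT (helper35's sheet for S2154), module BT-[ROOT-B] under the official stub names
(thin wrappers of `Cfsg.Agent.Lib.Helper34.BT.*'`).  Import EITHER this file OR another seat's [ROOT-B] file, not both.
-/
import Cfsg.Agent.Lib.Helper35.BT.Defs
import Cfsg.Agent.Lib.Helper34.BT.RootB

set_option autoImplicit false

namespace Cfsg.Agent.Lib.Helper35.BT

open Cfsg Cfsg.Lie Cfsg.Agent.Lib.Helper18 Cfsg.Agent.Lib.Helper61.ChevJ Matrix

universe u

variable {D : ChevalleyDatum}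

theorem om_nonneg (X : JData.{u} D) (y : Y D) (hy : Dom y) (r : ℕ) (hr : D.IsPosRoot r) : 0 ≤ om X y r :=
  Cfsg.Agent.Lib.Helper34.BT.om_nonneg' X y hy r hr

theorem om_pos (X : JData.{u} D) (y : Y D) (hy : Dom y) (r : ℕ) (hr : D.IsPosRoot r)
    (hnot : ¬ D.InRootSub (Jof y) r) : 0 < om X y r :=
  Cfsg.Agent.Lib.Helper34.BT.om_pos' X y hy r hr hnot

theorem om_eq_zero (X : JData.{u} D) (y : Y D) (r : ℕ) (hr : D.InRootSub (Jof y) r) : om X y r = 0 :=
  Cfsg.Agent.Lib.Helper34.BT.om_eq_zero' X y r hr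

theorem one_le_om_rho (X : JData.{u} D) (r : ℕ) (hr : D.IsPosRoot r) : 1 ≤ om X (fun _ => (1 : ℝ)) r :=
  Cfsg.Agent.Lib.Helper34.BT.one_le_om_rho' X r hr

end Cfsg.Agent.Lib.Helper35.BT
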