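/-
helper34: project BT (helper35's sheet for S2154, Borel–Tits), module BT-[DOM] (hedge of helper7's queue):
every `y` has a dominant image under a word in the fundamental reflections (descent on the number of positive roots
with `⟨r, y⟩ < 0`).
-/
import Cfsg.Agent.Lib.Helper35.BT.Defs
import Cfsg.Agent.Lib.Helper7.BT.RootA
import Cfsg.Agent.Lib.Helper18.WeylSum1

set_option autoImplicit false

namespace Cfsg.Agent.Lib.Helper34.BT

open Cfsg Cfsg.Lie Cfsg.Agent.Lib.Helper18 Cfsg.Agent.Lib.Helper61.ChevJ Matrix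
open Cfsg.Agent.Lib.Helper35.BT

universe u

variable {D : ChevalleyDatum}

open Classical in
/-- the positive roots on which `y` is negative -/
noncomputable def negSet (X : JData.{u} D) (y : Y D) : Finset ℕ :=
  (Finset.range D.nroots).filter (fun s => D.nroots / 2 ≤ s ∧ om X y s < 0)

theorem mem_negSet (X : JData.{u} D) (y : Y D) (s : ℕ) :
    s ∈ negSet X y ↔ s < D.nroots ∧ D.nroots / 2 ≤ s ∧ om X y s < 0 := by
  unfold negSet
  rw [Finset.mem_filter, Finset.mem_range]

/-- `(s_i y)_i = - y_i` -/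
theorem sy_self (Bd : BTData.{u} D) (i : Fin D.rank) (y : Y D) : sy (i : ℕ) y i = - y i := by
  unfold sy
  rw [dif_pos i.2]
  have h2 : (D.cartan (i : ℕ) (D.simple ((i : Fin D.rank) : ℕ)) : ℝ) = 2 := by
    rw [Bd.hself i i.2]; norm_num
  show y i - (D.cartan (i : ℕ) (D.simple (i : ℕ)) : ℝ) * y ⟨(i : ℕ), i.2⟩ = - y i
  rw [h2]
  have : (⟨(i : ℕ), i.2⟩ : Fin D.rank) = i := Fin.ext rfl
  rw [this]
  ring

/-- the reflection `s_i` strictly decreases the number of positive roots on which `y` is negative, if `y_i < 0` -/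
theorem card_negSet_sy_lt (Bd : BTData.{u} D) (y : Y D) (i : Fin D.rank) (hi : y i < 0) :
    (negSet Bd.X (sy (i : ℕ) y)).card < (negSet Bd.X y).card := by
  set C := Bd.X.C with hC
  have hp : D.simple i < D.nroots := C.simple_lt i i.2
  have hpge : D.nroots / 2 ≤ D.simple i := C.half_le_simple i i.2
  -- `p_i` is in `negSet y`
  have hpmem : D.simple i ∈ negSet Bd.X y := by
    rw [mem_negSet]
    exact ⟨hp, hpge, by rw [om_simple Bd y i]; exact hi⟩
  -- `p_i` is not in `negSet (s_i y)`
  have hpnot : ∀ s ∈ negSet Bd.X (sy (i : ℕ) y), s ≠ D.simple i := by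
    intro s hs hsp
    rw [mem_negSet] at hs
    rw [hsp, om_simple Bd (sy (i : ℕ) y) i, sy_self Bd i y] at hs
    linarith [hs.2.2]
  -- the map `s ↦ w_i s`
  have hmaps : ∀ s ∈ negSet Bd.X (sy (i : ℕ) y), C.w i s ∈ (negSet Bd.X y).erase (D.simple i) := by
    intro s hs
    have hne := hpnot s hs
    rw [mem_negSet] at hs
    obtain ⟨hs1, hs2, hs3⟩ := hs
    have hw1 : C.w i s < D.nroots := C.w_lt i s i.2 hs1
    have hw2 : D.nroots / 2 ≤ C.w i s := C.w_pos i s i.2 hs2 hs1 hne
    have hw3 : C.w i s ≠ D.simple i := by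
      have hn := C.nroots_eq
      have hl := C.rank_eq
      have hne' : s ≠ C.simples.getD i 0 := by rw [← C.hsimple i i.2]; exact hne
      have h := (C.spec.refl_pos i (by rw [hl]; exact i.2) s (by rw [hn]; exact hs2) (by rw [hn]; exact hs1) hne').2
      rw [← C.hsimple i i.2] at h
      exact h
    rw [Finset.mem_erase, mem_negSet]
    refine ⟨hw3, hw1, hw2, ?_⟩
    have h1 := om_sy Bd i i.2 y (C.w i s) hw1
    rw [C.w_eq_reflectRoot i _ i.2 hw1, C.w_w i s i.2 hs1] at h1
    rw [← h1]
    exact hs3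
  have hinj : Set.InjOn (fun s => C.w i s) (negSet Bd.X (sy (i : ℕ) y) : Set ℕ) := by
    intro a ha b hb hab
    have ha' := ((mem_negSet _ _ _).mp ha).1
    have hb' := ((mem_negSet _ _ _).mp hb).1
    have h := congrArg (C.w i) hab
    simp only [C.w_w i a i.2 ha', C.w_w i b i.2 hb'] at h
    exact h
  have hle : (negSet Bd.X (sy (i : ℕ) y)).card ≤ ((negSet Bd.X y).erase (D.simple i)).card :=
    Finset.card_le_card_of_injOn (fun s => C.w i s) hmaps hinj
  have herase : ((negSet Bd.X y).erase (D.simple i)).card < (negSet Bd.X y).card :=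
    Finset.card_erase_lt_of_mem hpmem
  omega

theorem wy_append_singleton (ws : List ℕ) (i : ℕ) (y : Y D) : wy (ws ++ [i]) y = wy ws (sy i y) := by
  unfold wy
  rw [List.foldr_append]
  rfl

/-- BT-[DOM] (helper34's copy; `hD` is not needed). -/
theorem exists_dom' (Bd : BTData.{u} D) (y : Y D) : ∃ ws : List ℕ, Dom (wy ws y) := by
  induction hN : (negSet Bd.X y).card using Nat.strong_induction_on generalizing y with
  | _ N ih =>
    by_cases hdom : Dom y
    · exact ⟨[], hdom⟩
    · unfold Dom at hdom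
      have hex : ∃ k, y k < 0 := by
        by_contra hcon
        apply hdom
        intro k
        by_contra hk
        exact hcon ⟨k, lt_of_not_ge hk⟩
      obtain ⟨i, hi⟩ := hex
      have hlt := card_negSet_sy_lt Bd y i hi
      obtain ⟨ws, hws⟩ := ih _ (hN ▸ hlt) (sy (i : ℕ) y) rfl
      exact ⟨ws ++ [(i : ℕ)], by rw [wy_append_singleton]; exact hws⟩

end Cfsg.Agent.Lib.Helper34.BT
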