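/-
helper34: project BT (helper35's sheet for S2154), module BT-[DOM] under the official stub name
(thin wrapper of `Cfsg.Agent.Lib.Helper34.BT.exists_dom'`).  Import EITHER this file OR another seat's [DOM] file.
-/
import Cfsg.Agent.Lib.Helper35.BT.Defs
import Cfsg.Agent.Lib.Helper34.BT.Dom

set_option autoImplicit false

namespace Cfsg.Agent.Lib.Helper35.BT

open Cfsg Cfsg.Lie Cfsg.Agent.Lib.Helper18 Cfsg.Agent.Lib.Helper61.ChevJ Matrix

universe u

variable {D : ChevalleyDatum}

/-- BT-[DOM]. -/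
theorem exists_dom (hD : D ∈ [chevG2, chevB2, chevD4, chevF4, chevE6, chevE7, chevE8]) (Bd : BTData.{u} D)
    (y : Y D) : ∃ ws : List ℕ, Dom (wy ws y) :=
  Cfsg.Agent.Lib.Helper34.BT.exists_dom' Bd y

end Cfsg.Agent.Lib.Helper35.BT
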