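/-
helper34: project BT (helper35's sheet for S2154, Borel–Tits), modules BT-[FIL-B] and BT-[FIL-RHO] in `_of` form:
the facts `om_nonneg` / `one_le_om_rho` of module [ROOT-B] enter as hypotheses.
-/
import Cfsg.Agent.Lib.Helper35.BT.Defs
import Cfsg.Agent.Lib.Helper34.BT.FilX
import Cfsg.Agent.Lib.Helper18.BN1
import Cfsg.Agent.S1034

set_option autoImplicit false

namespace Cfsg.Agent.Lib.Helper34.BT

open Cfsg Cfsg.Lie Cfsg.Agent.Lib.Helper18 Cfsg.Agent.Lib.Helper61.ChevJ Matrix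
open Cfsg.Agent.Lib.Helper35.BT

universe u

variable {D : ChevalleyDatum} {F : Type u} [Field F]

/-- `(AB - 1) = (A - 1)(B - 1) + (A - 1) + (B - 1)`: the matrices `A` with `Fil y c (A - 1)`, `c ≥ 0`, are closed
under products. -/
theorem fil_sub_one_mul {X : JData.{u} D} {y : Y D} {c : ℝ} (hc : 0 ≤ c) {A B : Matrix D.Idx D.Idx F}
    (hA : Fil X y c (A - 1)) (hB : Fil X y c (B - 1)) : Fil X y c (A * B - 1) := by
  have h : A * B - 1 = (A - 1) * (B - 1) + (A - 1) + (B - 1) := by noncomm_ring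
  rw [h]
  exact (((hA.mul hB).mono (by linarith)).add hA).add hB

/-- `Fil y 0 A` from `Fil y c (A - 1)`, `c ≥ 0`. -/
theorem fil_zero_of_sub_one {X : JData.{u} D} {y : Y D} {c : ℝ} (hc : 0 ≤ c) {A : Matrix D.Idx D.Idx F}
    (hA : Fil X y c (A - 1)) : Fil X y 0 A := by
  have h : A = (A - 1) + 1 := by rw [sub_add_cancel]
  rw [h]
  exact (hA.mono hc).add (Fil.one y)

/-- the subgroup of the `g` with `g` and `g⁻¹` both of `y`-filtration degree `≥ 0` -/
def filSubgroup (X : JData.{u} D) (y : Y D) : Subgroup (GL D.Idx F) where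
  carrier := {g | Fil X y 0 (g : Matrix D.Idx D.Idx F) ∧ Fil X y 0 ((g⁻¹ : GL D.Idx F) : Matrix D.Idx D.Idx F)}
  mul_mem' := by
    rintro a b ⟨a1, a2⟩ ⟨b1, b2⟩
    refine ⟨?_, ?_⟩
    · rw [Units.val_mul]
      exact (a1.mul b1).mono (by norm_num)
    · rw [_root_.mul_inv_rev, Units.val_mul]
      exact (b2.mul a2).mono (by norm_num)
  one_mem' := by
    refine ⟨?_, ?_⟩
    · rw [Units.val_one]; exact Fil.one y
    · rw [inv_one, Units.val_one]; exact Fil.one y
  inv_mem' := by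
    rintro a ⟨a1, a2⟩
    exact ⟨a2, by rwa [inv_inv]⟩

theorem mem_filSubgroup_iff (X : JData.{u} D) (y : Y D) (g : GL D.Idx F) :
    g ∈ filSubgroup X y ↔
      Fil X y 0 (g : Matrix D.Idx D.Idx F) ∧ Fil X y 0 ((g⁻¹ : GL D.Idx F) : Matrix D.Idx D.Idx F) := Iff.rfl

/-- BT-[FIL-B] in `_of` form: `hom` is [ROOT-B] `om_nonneg`. -/
theorem fil_borel_of (hD : D ∈ [chevG2, chevB2, chevD4, chevF4, chevE6, chevE7, chevE8]) (X : JData.{u} D) (y : Y D)
    (hom : ∀ r : ℕ, D.IsPosRoot r → 0 ≤ om X y r) (b : GL D.Idx F) (hb : b ∈ D.borelSubgroup F) :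
    Fil X y 0 (b : Matrix D.Idx D.Idx F) ∧ Fil X y 0 ((b⁻¹ : GL D.Idx F) : Matrix D.Idx D.Idx F) := by
  rw [← mem_filSubgroup_iff]
  have hU : D.posUnipotent F ≤ filSubgroup X y := by
    unfold ChevalleyDatum.posUnipotent
    rw [Subgroup.closure_le]
    rintro g ⟨r, t, hr, hg⟩
    have hgx : g = xG hD r t := eq_xG hD g r t hg
    have h0 := hom r hr
    refine ⟨?_, ?_⟩
    · rw [hg]
      exact fil_zero_of_sub_one h0 (fil_x hD X y r hr.1 t h0)
    · rw [hgx, xG_inv, coe_xG]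
      exact fil_zero_of_sub_one h0 (fil_x hD X y r hr.1 (-t) h0)
  have hH : D.diagonalSubgroup F ≤ filSubgroup X y := by
    intro g hg
    obtain ⟨c, -, hc⟩ := Cfsg.Agent.S1034.mem_diagonalSubgroup_torus D hD g hg
    obtain ⟨c', -, hc'⟩ := Cfsg.Agent.S1034.mem_diagonalSubgroup_torus D hD g⁻¹ (Subgroup.inv_mem _ hg)
    refine ⟨?_, ?_⟩
    · rw [hc]; exact Fil.diagonal y _
    · rw [hc']; exact Fil.diagonal y _
  exact (sup_le hU hH) hb

/-- BT-[FIL-RHO] in `_of` form: `hom` is [ROOT-B] `one_le_om_rho`. -/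
theorem fil_rho_of (hD : D ∈ [chevG2, chevB2, chevD4, chevF4, chevE6, chevE7, chevE8]) (X : JData.{u} D)
    (hom : ∀ r : ℕ, D.IsPosRoot r → 1 ≤ om X (fun _ => (1 : ℝ)) r)
    (u : GL D.Idx F) (hu : u ∈ D.posUnipotent F) :
    Fil X (fun _ => (1 : ℝ)) 1 ((u : Matrix D.Idx D.Idx F) - 1) := by
  have key : Fil X (fun _ => (1 : ℝ)) 1 ((u : Matrix D.Idx D.Idx F) - 1) ∧
      Fil X (fun _ => (1 : ℝ)) 1 (((u⁻¹ : GL D.Idx F) : Matrix D.Idx D.Idx F) - 1) := by
    unfold ChevalleyDatum.posUnipotent at hu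
    induction hu using Subgroup.closure_induction with
    | mem g hg =>
      obtain ⟨r, t, hr, hg⟩ := hg
      have hgx : g = xG hD r t := eq_xG hD g r t hg
      have h1 := hom r hr
      refine ⟨?_, ?_⟩
      · rw [hg]
        exact (fil_x hD X _ r hr.1 t (by linarith)).mono h1
      · rw [hgx, xG_inv, coe_xG]
        exact (fil_x hD X _ r hr.1 (-t) (by linarith)).mono h1
    | one =>
      refine ⟨?_, ?_⟩
      · rw [Units.val_one, sub_self]; exact Fil.zero _ _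
      · rw [inv_one, Units.val_one, sub_self]; exact Fil.zero _ _
    | mul a b _ _ ha hb =>
      refine ⟨?_, ?_⟩
      · rw [Units.val_mul]
        exact fil_sub_one_mul (by norm_num) ha.1 hb.1
      · rw [_root_.mul_inv_rev, Units.val_mul]
        exact fil_sub_one_mul (by norm_num) hb.2 ha.2
    | inv a _ ha =>
      exact ⟨ha.2, by rw [inv_inv]; exact ha.1⟩
  exact key.1

end Cfsg.Agent.Lib.Helper34.BT
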