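/-
helper34: project BT (helper35's sheet for S2154, Borel–Tits), modules BT-[FIL-B] and BT-[FIL-RHO], exact stubs
(they use helper34's own copies `om_nonneg'`, `one_le_om_rho'` of the [ROOT-B] facts, so this file does not depend on
which [ROOT-B] file is imported elsewhere).
-/
import Cfsg.Agent.Lib.Helper35.BT.Defs
import Cfsg.Agent.Lib.Helper34.BT.FilBRhoOf
import Cfsg.Agent.Lib.Helper34.BT.RootB

set_option autoImplicit false

namespace Cfsg.Agent.Lib.Helper35.BT

open Cfsg Cfsg.Lie Cfsg.Agent.Lib.Helper18 Cfsg.Agent.Lib.Helper61.ChevJ Matrix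

universe u

variable {D : ChevalleyDatum}

section Mat

variable {F : Type u} [Field F]

/-- BT-[FIL-B]: the Borel subgroup preserves dominant filtrations. -/
theorem fil_borel (hD : D ∈ [chevG2, chevB2, chevD4, chevF4, chevE6, chevE7, chevE8]) (X : JData.{u} D) (y : Y D)
    (hy : Dom y) (b : GL D.Idx F) (hb : b ∈ D.borelSubgroup F) :
    Fil X y 0 (b : Matrix D.Idx D.Idx F) ∧ Fil X y 0 ((b⁻¹ : GL D.Idx F) : Matrix D.Idx D.Idx F) :=
  Cfsg.Agent.Lib.Helper34.BT.fil_borel_of hD X y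
    (fun r hr => Cfsg.Agent.Lib.Helper34.BT.om_nonneg' X y hy r hr) b hb

/-- BT-[FIL-RHO]: the elements of `U` raise the `ρ`-weight by at least `1`. -/
theorem fil_rho (hD : D ∈ [chevG2, chevB2, chevD4, chevF4, chevE6, chevE7, chevE8]) (X : JData.{u} D)
    (u : GL D.Idx F) (hu : u ∈ D.posUnipotent F) :
    Fil X (fun _ => (1 : ℝ)) 1 ((u : Matrix D.Idx D.Idx F) - 1) :=
  Cfsg.Agent.Lib.Helper34.BT.fil_rho_of hD X
    (fun r hr => Cfsg.Agent.Lib.Helper34.BT.one_le_om_rho' X r hr) u hu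

end Mat

end Cfsg.Agent.Lib.Helper35.BT
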