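/-
helper34: project BT (helper35's sheet for S2154, Borel–Tits), module BT-[FIL-INV] (hedge of helper88's queue):
over a finite field, `Fil y c (g - 1)`, `c > 0`, passes to `g⁻¹` (a power of `g`).
-/
import Cfsg.Agent.Lib.Helper35.BT.Defs
import Cfsg.Agent.Lib.Helper34.BT.FilBRhoOf

set_option autoImplicit false

namespace Cfsg.Agent.Lib.Helper34.BT

open Cfsg Cfsg.Lie Cfsg.Agent.Lib.Helper18 Cfsg.Agent.Lib.Helper61.ChevJ Matrix
open Cfsg.Agent.Lib.Helper35.BT

universe u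

variable {D : ChevalleyDatum} {F : Type u} [Field F]

theorem fil_pow_sub_one (X : JData.{u} D) (y : Y D) (c : ℝ) (hc : 0 ≤ c) (A : Matrix D.Idx D.Idx F)
    (h : Fil X y c (A - 1)) (k : ℕ) : Fil X y c (A ^ k - 1) := by
  induction k with
  | zero => rw [pow_zero, sub_self]; exact Fil.zero _ _
  | succ k ih =>
    rw [pow_succ]
    exact fil_sub_one_mul hc ih h

theorem fil_inv' [Finite F] (X : JData.{u} D) (y : Y D) (c : ℝ) (hc : 0 < c) (g : GL D.Idx F)
    (h : Fil X y c ((g : Matrix D.Idx D.Idx F) - 1)) :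
    Fil X y c (((g⁻¹ : GL D.Idx F) : Matrix D.Idx D.Idx F) - 1) := by
  obtain ⟨n, hn0, hn⟩ := (isOfFinOrder_iff_pow_eq_one).mp (isOfFinOrder_of_finite g)
  have hinv : g⁻¹ = g ^ (n - 1) := by
    apply inv_eq_of_mul_eq_one_right
    rw [← pow_succ', Nat.sub_add_cancel hn0, hn]
  rw [hinv, Units.val_pow_eq_pow_val]
  exact fil_pow_sub_one X y c hc.le _ h _

end Cfsg.Agent.Lib.Helper34.BT
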