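/-
helper34: project BT (helper35's sheet for S2154), module BT-[FIL-INV] under the official stub name
(thin wrapper of `Cfsg.Agent.Lib.Helper34.BT.fil_inv'`).  Import EITHER this file OR another seat's [FIL-INV] file.
-/
import Cfsg.Agent.Lib.Helper35.BT.Defs
import Cfsg.Agent.Lib.Helper34.BT.FilInv

set_option autoImplicit false

namespace Cfsg.Agent.Lib.Helper35.BT

open Cfsg Cfsg.Lie Cfsg.Agent.Lib.Helper18 Cfsg.Agent.Lib.Helper61.ChevJ Matrix

universe u

variable {D : ChevalleyDatum}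

section Mat

variable {F : Type u} [Field F]

/-- BT-[FIL-INV]. -/
theorem fil_inv [Finite F] (X : JData.{u} D) (y : Y D) (c : ℝ) (hc : 0 < c) (g : GL D.Idx F)
    (h : Fil X y c ((g : Matrix D.Idx D.Idx F) - 1)) :
    Fil X y c (((g⁻¹ : GL D.Idx F) : Matrix D.Idx D.Idx F) - 1) :=
  Cfsg.Agent.Lib.Helper34.BT.fil_inv' X y c hc g h

end Mat

end Cfsg.Agent.Lib.Helper35.BT
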