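/-
helper34: project BT (helper35's sheet for S2154, Borel–Tits), module BT-[FIL-S] (hedge of helper88's queue):
the monomial matrix `n_{p_i}(1)` maps the `y`-weight spaces to the `s_i y`-weight spaces.
-/
import Cfsg.Agent.Lib.Helper35.BT.Defs
import Cfsg.Agent.Lib.Helper7.BT.RootA
import Cfsg.Agent.Lib.Helper18.NPMat
import Cfsg.Agent.Lib.Helper18.BN2
import Cfsg.Agent.S1034

set_option autoImplicit false

namespace Cfsg.Agent.Lib.Helper34.BT

open Cfsg Cfsg.Lie Cfsg.Agent.Lib.Helper18 Cfsg.Agent.Lib.Helper61.ChevJ Matrix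
open Cfsg.Agent.Lib.Helper35.BT

universe u

variable {D : ChevalleyDatum} {F : Type u} [Field F]

theorem wt_sG' (hD : D ∈ [chevG2, chevB2, chevD4, chevF4, chevE6, chevE7, chevE8]) (Bd : BTData.{u} D) (i : ℕ)
    (y : Y D) (a b : D.Idx) (h : ((sG (F := F) hD Bd.X.C i : GL D.Idx F) : Matrix D.Idx D.Idx F) a b ≠ 0) :
    wt Bd.X (sy i y) a = wt Bd.X y b := by
  by_cases hi : i < D.rank
  · rw [coe_sG hD Bd.X.C i hi] at h
    obtain ⟨η, -, -, -, -, hM⟩ := Cfsg.Agent.Lib.Helper18.np_matrix (F := F) Bd.X.C Bd.hnp i hi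
    rw [hM] at h
    rcases a with j' | s'
    · rcases b with j | s
      · rw [wt_inl, wt_inl]
      · exact absurd rfl h
    · rcases b with j | s
      · exact absurd rfl h
      · simp only [Matrix.of_apply, Sum.elim_inr] at h
        have hs' : (s' : ℕ) = D.reflectRoot i s := by
          by_contra hne
          rw [if_neg hne] at h
          exact h rfl
        rw [wt_inr, wt_inr, hs']
        exact om_sy Bd i hi y s s.2
  · have h1 : sG (F := F) hD Bd.X.C i = 1 := by
      unfold sG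
      rw [dif_neg hi]
    rw [h1, Units.val_one] at h
    have hab : a = b := by
      by_contra hne
      exact h (Matrix.one_apply_ne hne)
    have h2 : sy i y = y := by
      unfold sy
      rw [dif_neg hi]
    rw [h2, hab]

theorem wt_sG_inv' (hD : D ∈ [chevG2, chevB2, chevD4, chevF4, chevE6, chevE7, chevE8]) (Bd : BTData.{u} D) (i : ℕ)
    (y : Y D) (a b : D.Idx)
    (h : (((sG (F := F) hD Bd.X.C i)⁻¹ : GL D.Idx F) : Matrix D.Idx D.Idx F) a b ≠ 0) :
    wt Bd.X y a = wt Bd.X (sy i y) b := by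
  set s := sG (F := F) hD Bd.X.C i with hs
  have hH : (s * s)⁻¹ ∈ D.diagonalSubgroup F := Subgroup.inv_mem _ (sG_sq_mem hD Bd.X.C i)
  obtain ⟨c, -, hc⟩ := Cfsg.Agent.S1034.mem_diagonalSubgroup_torus D hD _ hH
  have hinv : s⁻¹ = s * (s * s)⁻¹ := by group
  rw [hinv, Units.val_mul, hc, Matrix.mul_diagonal] at h
  have h1 : (s : Matrix D.Idx D.Idx F) a b ≠ 0 := left_ne_zero_of_mul h
  have h2 := wt_sG' hD Bd i (sy i y) a b h1
  rw [sy_sy Bd i y] at h2
  exact h2

end Cfsg.Agent.Lib.Helper34.BT
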