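/-
helper34: project BT (helper35's sheet for S2154), module BT-[FIL-S] under the official stub names
(thin wrappers of `Cfsg.Agent.Lib.Helper34.BT.wt_sG'`, `wt_sG_inv'`).  Import EITHER this file OR another seat's [FIL-S] file.
-/
import Cfsg.Agent.Lib.Helper35.BT.Defs
import Cfsg.Agent.Lib.Helper34.BT.FilS

set_option autoImplicit false

namespace Cfsg.Agent.Lib.Helper35.BT

open Cfsg Cfsg.Lie Cfsg.Agent.Lib.Helper18 Cfsg.Agent.Lib.Helper61.ChevJ Matrix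

universe u

variable {D : ChevalleyDatum}

section Mat

variable {F : Type u} [Field F]

/-- BT-[FIL-S]. -/
theorem wt_sG (hD : D ∈ [chevG2, chevB2, chevD4, chevF4, chevE6, chevE7, chevE8]) (Bd : BTData.{u} D) (i : ℕ)
    (y : Y D) (a b : D.Idx) (h : ((sG (F := F) hD Bd.X.C i : GL D.Idx F) : Matrix D.Idx D.Idx F) a b ≠ 0) :
    wt Bd.X (sy i y) a = wt Bd.X y b :=
  Cfsg.Agent.Lib.Helper34.BT.wt_sG' hD Bd i y a b h

/-- BT-[FIL-S]. -/
theorem wt_sG_inv (hD : D ∈ [chevG2, chevB2, chevD4, chevF4, chevE6, chevE7, chevE8]) (Bd : BTData.{u} D) (i : ℕ)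
    (y : Y D) (a b : D.Idx)
    (h : (((sG (F := F) hD Bd.X.C i)⁻¹ : GL D.Idx F) : Matrix D.Idx D.Idx F) a b ≠ 0) :
    wt Bd.X y a = wt Bd.X (sy i y) b :=
  Cfsg.Agent.Lib.Helper34.BT.wt_sG_inv' hD Bd i y a b h

end Mat

end Cfsg.Agent.Lib.Helper35.BT
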