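/-
helper34: project BT (helper35's sheet for S2154, Borel–Tits), module BT-[NEG-X]:
if `x_{-p_i}(t)`, `t ≠ 0`, has `y`-filtration degree `≥ 0` then `y_i ≤ 0`.
-/
import Cfsg.Agent.Lib.Helper35.BT.Defs
import Cfsg.Agent.Lib.Helper34.BT.FilX
import Cfsg.Agent.Lib.Helper7.BT.RootA
import Cfsg.Agent.Lib.Helper18.NConj
import Cfsg.Agent.S1024

set_option autoImplicit false

namespace Cfsg.Agent.Lib.Helper35.BT

open Cfsg Cfsg.Lie Cfsg.Agent.Lib.Helper18 Cfsg.Agent.Lib.Helper61.ChevJ Matrix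

universe u

variable {D : ChevalleyDatum}

section Mat

variable {F : Type u} [Field F]

/-- BT-[NEG-X]. -/
theorem le_zero_of_fil_neg_simple (hD : D ∈ [chevG2, chevB2, chevD4, chevF4, chevE6, chevE7, chevE8])
    (Bd : BTData.{u} D) (y : Y D) (i : Fin D.rank) (t : F) (ht : t ≠ 0)
    (h : Fil Bd.X y 0 (D.x F (D.neg (D.simple i)) t)) : y i ≤ 0 := by
  have hs : D.simple i < D.nroots := Bd.X.C.simple_lt i i.2
  have hr : D.neg (D.simple i) < D.nroots := neg_lt_nroots D hD _ hs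
  have hne : D.x F (D.neg (D.simple i)) t ≠ 1 := fun h1 =>
    ht ((Cfsg.Agent.S1024.result D hD _ hr t).mp h1)
  obtain ⟨a, b, hab⟩ : ∃ a b, D.x F (D.neg (D.simple i)) t a b ≠ (1 : Matrix D.Idx D.Idx F) a b := by
    by_contra hcon
    simp only [not_exists, not_not] at hcon
    exact hne (Matrix.ext hcon)
  have hne_ab : a ≠ b := by
    rintro rfl
    exact hab (by rw [x_diag hD _ hr t a, Matrix.one_apply_eq])
  rw [Matrix.one_apply_ne hne_ab] at hab
  obtain ⟨m, h0, hm⟩ := wt_entry Bd.X y _ hr t a b hab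
  have hm1 : 1 ≤ m := by
    by_contra hlt
    exact hne_ab (h0 (by omega))
  have hF := h a b hab
  rw [om_neg_simple Bd y i] at hm
  have h1 : (1 : ℝ) ≤ (m : ℝ) := by exact_mod_cast hm1
  nlinarith

end Mat

end Cfsg.Agent.Lib.Helper35.BT
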